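import Groth.Agent.CurveInAV.Iter
import Groth.Agent.AVTors.TatePt
import Groth.Agent.H23.RatProductK
import Groth.Agent.S18542

/-!
# Homomorphisms through which a curve with connected preimages factors are surjective
-/

set_option autoImplicit false
set_option linter.style.haveILetI false
set_option backward.isDefEq.respectTransparency false
set_option backward.isDefEq.respectTransparency.types false
set_option linter.unusedSectionVars false
set_option maxHeartbeats 1000000

universe u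

open CategoryTheory CategoryTheory.Limits AlgebraicGeometry MonoidalCategory CartesianMonoidalCategory MonObj

noncomputable section

namespace Groth.Agent.CurveInAV

open Groth.Agent

variable {k : Type u} [Field k]

/-- The point of a scheme under a point with values in a field. -/
abbrev img {Ω : Type u} [Field Ω] [Algebra k Ω] {X : Over (Spec (CommRingCat.of k))} (x : SGA7.pt Ω ⟶ X) : X.left :=
  x.left (IsLocalRing.closedPoint Ω)

theorem img_comp {Ω : Type u} [Field Ω] [Algebra k Ω] {X Y : Over (Spec (CommRingCat.of k))} (x : SGA7.pt Ω ⟶ X)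
    (f : X ⟶ Y) : img (x ≫ f) = f.left (img x) := by
  simp [img]

/-- Every point carries a point with values in an algebraically closed field. -/
theorem exists_geom_point (X : Over (Spec (CommRingCat.of k))) (q : X.left) :
    ∃ (Ω : Type u) (_ : Field Ω) (_ : Algebra k Ω) (_ : IsAlgClosed Ω) (x : SGA7.pt Ω ⟶ X), img x = q := by
  let Ω := AlgebraicClosure (X.left.residueField q)
  let g : Spec (CommRingCat.of Ω) ⟶ X.left :=
    Spec.map (CommRingCat.ofHom (algebraMap (X.left.residueField q) Ω)) ≫ X.left.fromSpecResidueField q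
  letI : Algebra k Ω := (Spec.preimage (g ≫ X.hom)).hom.toAlgebra
  refine ⟨Ω, inferInstance, this, inferInstance, Over.homMk g ?_, ?_⟩
  · exact (Spec.map_preimage (g ≫ X.hom)).symm
  · show g (IsLocalRing.closedPoint Ω) = q
    exact Scheme.fromSpecResidueField_apply q _

/-- A geometric point in the image lifts. -/
theorem exists_lift {Ω : Type u} [Field Ω] [Algebra k Ω] [IsAlgClosed Ω] {X Y : Over (Spec (CommRingCat.of k))}
    (f : X ⟶ Y) [LocallyOfFiniteType f.left] (a : SGA7.pt Ω ⟶ Y) (ha : img a ∈ Set.range f.left.base) :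
    ∃ y : SGA7.pt Ω ⟶ X, y ≫ f = a := by
  obtain ⟨x, hx⟩ := ha
  obtain ⟨p, -, -⟩ := Scheme.Pullback.exists_preimage_pullback (f := a.left) (g := f.left)
    (IsLocalRing.closedPoint Ω) x hx.symm
  let p' : Spec (CommRingCat.of Ω) ⟶ Spec (CommRingCat.of Ω) := 𝟙 _
  let P : Over (Spec (CommRingCat.of Ω)) := Over.mk (pullback.fst a.left f.left)
  haveI : LocallyOfFiniteType P.hom := MorphismProperty.pullback_fst _ _ ‹_›
  haveI : Nonempty P.left := ⟨p⟩
  obtain ⟨z⟩ := H23.RatProductK.exists_point P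
  have hz : z.left ≫ pullback.fst a.left f.left = 𝟙 _ := Over.w z
  refine ⟨Over.homMk (z.left ≫ pullback.snd a.left f.left) ?_, ?_⟩
  · rw [Category.assoc, ← Over.w f, ← pullback.condition_assoc, Over.w a, reassoc_of% hz]
  · refine Over.OverMorphism.ext ?_
    show (z.left ≫ pullback.snd a.left f.left) ≫ f.left = a.left
    rw [Category.assoc, ← pullback.condition, reassoc_of% hz]

variable {A : Over (Spec (CommRingCat.of k))} [GrpObj A] [IsCommMonObj A]
  [IsProper A.hom] [Smooth A.hom] [GeometricallyIrreducible A.hom]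
  {J : Over (Spec (CommRingCat.of k))} [GrpObj J] [IsCommMonObj J] [IsProper J.hom] [GeometricallyIntegral J.hom]
  (χ : J ⟶ A) [IsMonHom χ]

theorem proper_left {X Y : Over (Spec (CommRingCat.of k))} (f : X ⟶ Y) [IsProper X.hom] [IsSeparated Y.hom] :
    IsProper f.left := by
  haveI : IsProper (f.left ≫ Y.hom) := by rw [Over.w]; infer_instance
  exact IsProper.of_comp f.left Y.hom

theorem one_mem_range : (η[A]).left (IsLocalRing.closedPoint k) ∈ Set.range χ.left.base :=
  ⟨(η[J]).left (IsLocalRing.closedPoint k), by rw [← Scheme.Hom.comp_apply, ← Over.comp_left, IsMonHom.one_hom]⟩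

theorem mem_range_of_pow_eq_one {C : Scheme.{u}} {i : C ⟶ A.left} (hC : Good A 1 i)
    (j : Over.mk (i ≫ A.hom) ⟶ J) (c : 𝟙_ (Over (Spec (CommRingCat.of k))) ⟶ A)
    (hjχ : j ≫ χ = (Over.homMk i rfl : Over.mk (i ≫ A.hom) ⟶ A) * (toUnit (Over.mk (i ≫ A.hom)) ≫ c)⁻¹)
    (σ : Spec (CommRingCat.of k) ⟶ C) (hσ : σ ≫ (i ≫ A.hom) = 𝟙 _)
    {n : ℕ} (hn : (n : k) ≠ 0) {Ω : Type u} [Field Ω] [Algebra k Ω] [IsAlgClosed Ω]
    (a : SGA7.pt Ω ⟶ A) (ha : a ^ n = 1) : img a ∈ Set.range χ.left.base := by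
  haveI := PicTangent.JacDeg.geometricallyIntegral A.hom
  haveI := hC.clImm
  obtain ⟨he, hf, hsurj⟩ := mulN_props A hn
  haveI := he
  haveI := hf
  haveI := proper_left χ
  have hn0 : 0 < n := Nat.pos_of_ne_zero fun h => hn (by rw [h, Nat.cast_zero])
  let Y : Over (Spec (CommRingCat.of k)) := Over.mk (i ≫ A.hom)
  let iY : Y ⟶ A := Over.homMk i rfl
  let W : Over (Spec (CommRingCat.of k)) := Over.mk (pullback.snd (mulN A n) i ≫ i ≫ A.hom)
  let fW : W ⟶ A := Over.homMk (pullback.fst (mulN A n) i) (by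
    show pullback.fst (mulN A n) i ≫ A.hom = pullback.snd (mulN A n) i ≫ i ≫ A.hom
    rw [← pullback.condition_assoc, mulN_hom])
  let pr : W ⟶ Y := Over.homMk (pullback.snd (mulN A n) i) rfl
  have hfW : fW ^ n = pr ≫ iY := by
    have h1 : fW ≫ (𝟙 A ^ n) = pr ≫ iY := Over.OverMorphism.ext pullback.condition
    rwa [MonObj.comp_pow, Category.comp_id] at h1
  haveI hWc : GeometricallyConnected W.hom := hC.conn n hn
  haveI : SmoothOfRelativeDimension 1 (i ≫ A.hom) := hC.smooth
  haveI : Smooth (i ≫ A.hom) := SmoothOfRelativeDimension.smooth 1 _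
  haveI : Etale (pullback.snd (mulN A n) i) := MorphismProperty.pullback_snd _ _ he
  haveI : Smooth W.hom := inferInstanceAs (Smooth (pullback.snd (mulN A n) i ≫ i ≫ A.hom))
  haveI : UniversallyOpen W.hom := inferInstance
  -- points of `W` over a point of `C`
  let c0 : SGA7.pt Ω ⟶ Y := Over.homMk (AVTors.vΩ (k := k) Ω ≫ σ) (by
    show (AVTors.vΩ (k := k) Ω ≫ σ) ≫ i ≫ A.hom = _
    rw [Category.assoc, hσ, Category.comp_id]; rfl)
  obtain ⟨x0, hx0⟩ := AVTors.exists_root_pt Ω A n hn0 (c0 ≫ iY)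
  have mk : ∀ x : SGA7.pt Ω ⟶ A, x ^ n = c0 ≫ iY → ∃ w : SGA7.pt Ω ⟶ W, w ≫ fW = x ∧ w ≫ pr = c0 := by
    intro x hx
    have h1 : x ≫ (𝟙 A ^ n) = c0 ≫ iY := by rw [MonObj.comp_pow, Category.comp_id, hx]
    refine ⟨Over.homMk (pullback.lift x.left c0.left (congrArg (fun m : SGA7.pt Ω ⟶ A => m.left) h1)) ?_,
      Over.OverMorphism.ext (pullback.lift_fst _ _ _), Over.OverMorphism.ext (pullback.lift_snd _ _ _)⟩
    show pullback.lift _ _ _ ≫ pullback.snd (mulN A n) i ≫ i ≫ A.hom = _
    rw [pullback.lift_snd_assoc]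
    exact Over.w c0
  obtain ⟨w0, hw0, -⟩ := mk x0 hx0
  obtain ⟨w1, hw1, -⟩ := mk (a * x0) (by rw [mul_pow, ha, hx0, _root_.one_mul])
  haveI : Nonempty W.left := ⟨img w0⟩
  haveI : ConnectedSpace W.left := GeometricallyConnected.connectedSpace_of_subsingleton (f := W.hom)
  haveI hWW : ConnectedSpace (W ⊗ W).left := inferInstanceAs (ConnectedSpace ↥(pullback W.hom W.hom))
  -- the difference map
  let dW : W ⊗ W ⟶ A := (fst W W ≫ fW) * (snd W W ≫ fW)⁻¹
  let e : W ⊗ W ⟶ J := (fst W W ≫ pr ≫ j) * (snd W W ≫ pr ≫ j)⁻¹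
  have hd : dW ^ n = e ≫ χ := by
    have hc : ∀ t : W ⊗ W ⟶ Y, t ≫ j ≫ χ = (t ≫ iY) * (toUnit (W ⊗ W) ≫ c)⁻¹ := by
      intro t
      rw [hjχ, MonObj.comp_mul, GrpObj.comp_inv, ← Category.assoc t, comp_toUnit]
    calc dW ^ n = (fst W W ≫ pr ≫ iY) * (snd W W ≫ pr ≫ iY)⁻¹ := by
          rw [mul_pow, inv_pow, ← MonObj.comp_pow, ← MonObj.comp_pow, hfW]
      _ = e ≫ χ := by
          have ha' := hc (fst W W ≫ pr)
          have hb' := hc (snd W W ≫ pr)
          simp only [Category.assoc] at ha' hb'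
          rw [MonObj.mul_comp, GrpObj.inv_comp, Category.assoc, Category.assoc, Category.assoc,
            Category.assoc, ha', hb', mul_inv_rev, _root_.inv_inv]
          rw [_root_.mul_assoc, ← _root_.mul_assoc (toUnit (W ⊗ W) ≫ c)⁻¹, inv_mul_cancel, _root_.one_mul]
  -- the other translates of the image
  let Z : Set A.left := Set.range χ.left.base
  have hZ : IsClosed Z := χ.left.isClosedMap.isClosed_range
  let e0 : A.left := (η[A]).left (IsLocalRing.closedPoint k)
  let K : Set A.left := (mulN A n) ⁻¹' {e0}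
  haveI : IsClosedImmersion (η[A]).left := by
    haveI : IsClosedImmersion ((η[A]).left ≫ A.hom) := by
      rw [Over.w]
      exact inferInstanceAs (IsClosedImmersion (𝟙 (Spec (CommRingCat.of k))))
    exact IsClosedImmersion.of_comp (η[A]).left A.hom
  have he0 : IsClosed ({e0} : Set A.left) := by
    have h := (η[A]).left.isClosedEmbedding.isClosedMap _ (isClosed_univ)
    rw [Set.image_univ] at h
    convert h using 1
    ext p
    constructor
    · rintro rfl; exact ⟨_, rfl⟩
    · rintro ⟨q, rfl⟩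
      haveI : Subsingleton (𝟙_ (Over (Spec (CommRingCat.of k)))).left :=
        inferInstanceAs (Subsingleton (PrimeSpectrum k))
      exact congrArg _ (Subsingleton.elim _ _)
  have hKc : IsClosed K := he0.preimage (mulN A n).continuous
  have hKd : DiscreteTopology K := ((mulN A n).isDiscrete_preimage_singleton e0).to_subtype
  have hK0 : IsClosed (K \ Z) := by
    have h := hKc.isClosedMap_subtype_val _ (isClosed_discrete (Subtype.val ⁻¹' (Zᶜ) : Set K))
    rwa [Subtype.image_preimage_coe, ← Set.sdiff_eq] at h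
  let Φ : A ⊗ J ⟶ A := fst A J * (snd A J ≫ χ)
  haveI : IsProper (A ⊗ J).hom := by
    show IsProper (pullback.fst A.hom J.hom ≫ A.hom)
    infer_instance
  haveI := proper_left Φ
  let R : Set A.left := Φ.left.base '' ((fst A J).left.base ⁻¹' (K \ Z))
  have hR : IsClosed R := Φ.left.isClosedMap _ (hK0.preimage (fst A J).left.continuous)
  have hdisj : Disjoint Z R := by
    rw [Set.disjoint_left]
    rintro p hpZ ⟨q, hq, rfl⟩
    obtain ⟨Ω', _, _, _, xq, hxq⟩ := exists_geom_point (A ⊗ J) q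
    obtain ⟨y', hy'⟩ := exists_lift χ (xq ≫ Φ) (by rw [img_comp, hxq]; exact hpZ)
    refine hq.2 ⟨img (y' * (xq ≫ snd A J)⁻¹), ?_⟩
    rw [← img_comp, MonObj.mul_comp, GrpObj.inv_comp, hy', MonObj.comp_mul, Category.assoc, mul_inv_cancel_right,
      img_comp, hxq]
  have hcov : (mulN A n).base ⁻¹' Z ⊆ Z ∪ R := by
    intro p hp
    obtain ⟨Ω', _, _, _, x, hx⟩ := exists_geom_point A p
    have hxn : x ≫ (𝟙 A ^ n) = x ^ n := by rw [MonObj.comp_pow, Category.comp_id]
    obtain ⟨y, hy⟩ := exists_lift χ (x ≫ (𝟙 A ^ n)) (by rw [img_comp, hx]; exact hp)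
    obtain ⟨b, hb⟩ := AVTors.exists_root_pt Ω' J n hn0 y
    let t := x * (b ≫ χ)⁻¹
    have ht : t ^ n = 1 := by
      rw [mul_pow, inv_pow, ← MonObj.pow_comp, hb, hy, hxn, mul_inv_cancel]
    have htK : img t ∈ K := by
      show (mulN A n) (img t) = e0
      have h2 : t ≫ (𝟙 A ^ n) = toUnit (SGA7.pt Ω') ≫ η[A] := by
        rw [MonObj.comp_pow, Category.comp_id, ht, Hom.one_def]
      rw [← img_comp, h2, img_comp]
      haveI : Subsingleton (𝟙_ (Over (Spec (CommRingCat.of k)))).left :=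
        inferInstanceAs (Subsingleton (PrimeSpectrum k))
      exact congrArg _ (Subsingleton.elim _ _)
    by_cases htZ : img t ∈ Z
    · obtain ⟨y'', hy''⟩ := exists_lift χ t htZ
      left
      refine ⟨img (y'' * b), ?_⟩
      rw [← img_comp, MonObj.mul_comp, hy'', inv_mul_cancel_right, hx]
    · right
      refine ⟨img (lift t b), ?_, ?_⟩
      · show (fst A J).left (img (lift t b)) ∈ K \ Z
        rw [← img_comp, lift_fst]
        exact ⟨htK, htZ⟩
      · rw [← img_comp, MonObj.comp_mul, lift_fst, lift_snd_assoc, inv_mul_cancel_right, hx]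
  have hsub : Set.range dW.left.base ⊆ Z := by
    have hrange : Set.range dW.left.base ⊆ Z ∪ R := by
      rintro _ ⟨q, rfl⟩
      refine hcov ⟨e.left q, ?_⟩
      have h1 : dW ≫ (𝟙 A ^ n) = e ≫ χ := by rw [MonObj.comp_pow, Category.comp_id, hd]
      rw [← Scheme.Hom.comp_apply, ← Over.comp_left, ← h1, Over.comp_left, Scheme.Hom.comp_apply]
    have hmeet : img (lift w0 w0 ≫ dW) ∈ Z := by
      have h3 : lift w0 w0 ≫ dW = (1 : SGA7.pt Ω ⟶ J) ≫ χ := by
        rw [MonObj.comp_mul, GrpObj.comp_inv, lift_fst_assoc, lift_snd_assoc, mul_inv_cancel, MonObj.one_comp]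
      rw [h3, img_comp]
      exact ⟨_, rfl⟩
    have hpre : _root_.IsPreconnected (Set.range dW.left.base) := (isPreconnected_range dW.left.continuous)
    intro p hp
    refine (hrange hp).resolve_right fun hpR => ?_
    obtain ⟨x, -, hxZ, hxR⟩ := isPreconnected_closed_iff.1 hpre Z R hZ hR hrange
      ⟨_, ⟨_, (img_comp (lift w0 w0) dW).symm⟩, hmeet⟩ ⟨p, hp, hpR⟩
    exact Set.disjoint_left.1 hdisj hxZ hxR
  have h4 : lift w1 w0 ≫ dW = a := by
    rw [MonObj.comp_mul, GrpObj.comp_inv, lift_fst_assoc, lift_snd_assoc, hw1, hw0, mul_inv_cancel_right]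
  refine hsub ⟨img (lift w1 w0), ?_⟩
  rw [← img_comp, h4]

theorem surjective_of_good {C : Scheme.{u}} {i : C ⟶ A.left} (hC : Good A 1 i)
    (j : Over.mk (i ≫ A.hom) ⟶ J) (c : 𝟙_ (Over (Spec (CommRingCat.of k))) ⟶ A)
    (hjχ : j ≫ χ = (Over.homMk i rfl : Over.mk (i ≫ A.hom) ⟶ A) * (toUnit (Over.mk (i ≫ A.hom)) ≫ c)⁻¹)
    (σ : Spec (CommRingCat.of k) ⟶ C) (hσ : σ ≫ (i ≫ A.hom) = 𝟙 _) :
    Function.Surjective χ.left.base := by
  haveI := PicTangent.JacDeg.geometricallyIntegral A.hom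
  haveI := proper_left χ
  let Ω := AlgebraicClosure k
  let F := Over.pullback (AVTors.vΩ (k := k) Ω)
  letI : GrpObj (F.obj A) := Functor.grpObjObj
  haveI : IsProper (F.obj A).hom := inferInstanceAs (IsProper (pullback.snd A.hom (AVTors.vΩ Ω)))
  haveI : Smooth (F.obj A).hom := inferInstanceAs (Smooth (pullback.snd A.hom (AVTors.vΩ Ω)))
  haveI : GeometricallyIntegral (F.obj A).hom :=
    inferInstanceAs (GeometricallyIntegral (pullback.snd A.hom (AVTors.vΩ Ω)))
  haveI : GeometricallyConnected (F.obj A).hom :=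
    inferInstanceAs (GeometricallyConnected (pullback.snd A.hom (AVTors.vΩ Ω)))
  haveI : IsCommMonObj (F.obj A) := isCommMonObj_of_isProper_of_geometricallyIntegral _
  obtain ⟨l, hl, hlk⟩ : ∃ l : ℕ, l.Prime ∧ (l : k) ≠ 0 := by
    by_cases h2 : (2 : k) = 0
    · refine ⟨3, Nat.prime_three, ?_⟩
      rw [Nat.cast_ofNat, show (3 : k) = 2 + 1 by norm_num, h2, zero_add]
      exact one_ne_zero
    · exact ⟨2, Nat.prime_two, by rwa [Nat.cast_ofNat]⟩
  haveI : Fact l.Prime := ⟨hl⟩
  have hlΩ : (l : Ω) ≠ 0 := fun h => hlk ((algebraMap k Ω).injective (by rwa [map_natCast, map_zero]))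
  have hdense := S18542.result Ω (F.obj A) l hlΩ
  let π : (F.obj A).left ⟶ A.left := pullback.fst A.hom (AVTors.vΩ Ω)
  have hsub : (⋃ (m : ℕ) (a : (Over.mk (𝟙 (Spec (CommRingCat.of Ω)))) ⟶ F.obj A)
      (_ : a ∈ AbDual.torsPts (F.obj A) (l ^ m) (Over.mk (𝟙 (Spec (CommRingCat.of Ω))))), Set.range a.left.base) ⊆
      π.base ⁻¹' Set.range χ.left.base := by
    simp only [Set.iUnion_subset_iff]
    rintro m b hb _ ⟨q, rfl⟩
    let a := (AVTors.ePts Ω A).symm b
    have ha : a ^ (l ^ m) = 1 := by rw [← map_pow, show b ^ (l ^ m) = 1 from hb, map_one]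
    have hmem := mem_range_of_pow_eq_one χ hC j c hjχ σ hσ
      (n := l ^ m) (by rw [Nat.cast_pow]; exact pow_ne_zero m hlk) a ha
    have hab : b.left ≫ π = a.left := by
      rw [← show AVTors.ePts Ω A a = b from (AVTors.ePts Ω A).apply_symm_apply b]
      show ((Over.mapPullbackAdj (AVTors.vΩ (k := k) Ω)).homEquiv (AVTors.pt0 Ω) A ((AVTors.ioPt Ω).hom ≫ a)).left ≫
        pullback.fst A.hom (AVTors.vΩ Ω) = a.left
      simp [Adjunction.homEquiv_unit, AVTors.ioPt]
      exact Category.id_comp _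
    show π (b.left q) ∈ Set.range χ.left.base
    rw [← Scheme.Hom.comp_apply, hab]
    haveI : Subsingleton (SGA7.pt (K := k) Ω).left := inferInstanceAs (Subsingleton (PrimeSpectrum Ω))
    obtain rfl : q = IsLocalRing.closedPoint Ω := Subsingleton.elim (α := (SGA7.pt (K := k) Ω).left) _ _
    exact hmem
  have hall := (hdense.mono hsub).closure_eq
  rw [(χ.left.isClosedMap.isClosed_range.preimage π.continuous).closure_eq] at hall
  haveI : Surjective π := MorphismProperty.pullback_fst _ _ (GrpSchLib.surjective_spec_map_field _)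
  intro p
  obtain ⟨q, rfl⟩ := π.surjective p
  exact hall.ge trivial

end Groth.Agent.CurveInAV
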